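import Cfsg.Prelude.Def_Spor_M
import Cfsg.Agent.H45.CosetDerived
import Cfsg.Agent.H45.CosetOrbit

/-!
Presentations on `Fin n`: transport of identities to any group satisfying the relators.
-/

set_option autoImplicit false

namespace Cfsg.Agent.H44.Y555

open Cfsg.Agent.H45 Cfsg.Spor

theorem lift_prod {X G : Type*} [Group G] (f : X → G) (w : List X) :
    FreeGroup.lift f (w.map FreeGroup.of).prod = (w.map f).prod := by
  rw [map_list_prod, List.map_map]
  congr 1
  exact List.map_congr_left fun x _ => FreeGroup.lift_apply_of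

theorem evalW_val {n : ℕ} {G : Type*} [Group G] (f : Fin n → G) (w : List (Fin n)) :
    evalW (eOf (List.finRange n) f) (w.map Fin.val) = (w.map f).prod := by
  unfold evalW
  rw [List.map_map]
  congr 1
  refine List.map_congr_left fun x _ => ?_
  simp [eOf]

variable {Gen : Type} [DecidableEq Gen] {P : Pres Gen}

/-- a map satisfying the relators transports trivial words -/
theorem transport (h : P.OK) {G : Type} [Group G] {f : Gen → G}
    (hf : ∀ w ∈ P.R, evalW (eOf P.gl f) w = 1) {w : List ℕ} (hw : evalW P.e w = 1) :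
    evalW (eOf P.gl f) w = 1 := by
  have hcox : CoxHolds P.edges f :=
    coxHolds_of_words h.all h.check fun v hv => hf v (List.mem_append_left _ hv)
  have hall : ∀ r ∈ coxRelators P.edges ∪ {r | r ∈ P.extra}, FreeGroup.lift f r = 1 := by
    rintro r (⟨x, hx, y, hy, rfl⟩ | hr)
    · simpa [map_pow, map_mul, FreeGroup.lift_apply_of] using hcox x hx y hy
    · have h1 := h.extra_eval _ f
        (fun x => (eq_inv_of_mul_eq_one_left (sq_of_coxHolds hcox h.nodes x)).symm)
      have h2 : FreeGroup.lift f r ∈ P.extra.map (FreeGroup.lift f) :=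
        List.mem_map.mpr ⟨r, hr, rfl⟩
      rw [h1, List.mem_map] at h2
      obtain ⟨v, hv, hvr⟩ := h2
      rw [← hvr]
      exact hf v (List.mem_append_right _ hv)
  have he : (fun l => PresentedGroup.toGroup hall (P.e l)) = eOf P.gl f := by
    funext l
    unfold Pres.e eOf
    cases P.gl[l]? with
    | none => simp
    | some x => exact PresentedGroup.toGroup.of hall
  have := congrArg (PresentedGroup.toGroup hall) hw
  rw [map_one, evalW, map_list_prod, List.map_map] at this
  rw [← this, ← he]
  rfl

/-- all letters generate -/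
theorem wsub_top (h : P.OK) {n : ℕ} (hn : P.gl.length = n) {ws : List (List ℕ)}
    (hws : ∀ l < n, [l] ∈ ws) : P.wsub ws = ⊤ := by
  rw [eq_top_iff, ← h.gen, Subgroup.closure_le]
  rintro _ ⟨l, hl, rfl⟩
  exact Subgroup.subset_closure ⟨[l], hws l (hn ▸ hl), mul_one _⟩

/-- words acting trivially in a faithful action vanish in every image -/
theorem identities (h : P.OK) {m N : ℕ} {cols : List ℕ} {lvs : List Lvl}
    {ws : List (List ℕ)} {L : ℕ} (hL : P.gl.length = L) (hws : ∀ l < L, [l] ∈ ws)
    (hb : Finite (P.wsub ws) ∧ Nat.card (P.wsub ws) ≤ m)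
    (hp : permCheck P.gl.length N (List.range P.gl.length) cols P.R = true)
    (hc : chainCheck P.gl.length N cols lvs = true) (hm : chainProd lvs = m) {w : List ℕ}
    (hw : (w.all (fun l => Nat.blt l P.gl.length) &&
      fixAll (w.map fun l => cols.getD l 0) N) = true) : evalW P.e w = 1 := by
  rw [wsub_top h hL hws] at hb
  have : Finite P.Gp := by
    have := hb.1
    exact Finite.of_equiv _ Subgroup.topEquiv.toEquiv
  obtain ⟨φ, hA⟩ := h.act hp
  have hle : Nat.card P.Gp ≤ m := by
    rw [← Nat.card_congr Subgroup.topEquiv.toEquiv]; exact hb.2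
  exact evalW_eq_one hA (card_eq_of_chain hA hle hc hm).2 hw

end Cfsg.Agent.H44.Y555
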