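import Cfsg.Agent.H44.Y555.TabP
import Cfsg.Agent.H44.Y555.TabPTop
import Cfsg.Agent.H44.Y555.TabQ
import Cfsg.Agent.H44.Y555.RepP
import Cfsg.Agent.H44.Y555.RepQ

/-!
The spider relation forces the end node of an arm of `Y₅₅₅` to be the ninth power of a Coxeter
element of a sub-diagram of type `E₇`.
-/

set_option autoImplicit false
set_option maxRecDepth 100000

namespace Cfsg.Agent.H44.Y555

open Cfsg.Agent.H45 Cfsg.Spor Cfsg.Spor.Bimonster

theorem P_bound : Finite (PresP.pres.wsub
      [[0], [1], [2], [3], [4], [5], [6], [7], [8], [9]]) ∧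
    Nat.card (PresP.pres.wsub [[0], [1], [2], [3], [4], [5], [6], [7], [8], [9]]) ≤
      6561 * (2160 * (728 * (243 * (27 * (16 * (5 * (4 * (3 * (2 * 1))))))))) :=
  TabPTop.L10.step (TabP.L9.step (TabP.L8.step (TabP.L7.step (TabP.L6.step (TabP.L5.step
    (TabP.L4.step (TabP.L3.step (TabP.L2.step (TabP.L1.step Pres.wsub_nil_card)))))))))

theorem Q_bound : Finite (PresQ.pres.wsub [[0], [1], [2], [3], [4], [5], [6], [7], [8]]) ∧
    Nat.card (PresQ.pres.wsub [[0], [1], [2], [3], [4], [5], [6], [7], [8]]) ≤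
      255 * (128 * (56 * (27 * (16 * (5 * (4 * (3 * (2 * 1)))))))) :=
  TabQ.L9.step (TabQ.L8.step (TabQ.L7.step (TabQ.L6.step (TabQ.L5.step
    (TabQ.L4.step (TabQ.L3.step (TabQ.L2.step (TabQ.L1.step Pres.wsub_nil_card))))))))

theorem P_chain : chainProd RepP.chain =
    6561 * (2160 * (728 * (243 * (27 * (16 * (5 * (4 * (3 * (2 * 1))))))))) := by decide +kernel

theorem Q_chain : chainProd RepQ.chain =
    255 * (128 * (56 * (27 * (16 * (5 * (4 * (3 * (2 * 1)))))))) := by decide +kernel

variable {G : Type} [Group G] (g : Bimonster.Gen → G)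

/-- the product of a word of generators -/
def pr (w : List Bimonster.Gen) : G := (w.map g).prod

theorem pr_append (u v : List Bimonster.Gen) : pr g (u ++ v) = pr g u * pr g v := by
  simp [pr]

/-- the Coxeter element of the first `E₇` diagram to the ninth power -/
def zW : List Bimonster.Gen := (List.replicate 9 [.a, .b1, .b2, .b3, .c1, .c2, .d1]).flatten

/-- the same for the mirror diagram -/
def zW' : List Bimonster.Gen := (List.replicate 9 [.a, .b1, .b3, .b2, .c1, .c3, .d1]).flatten

/-- the central element of the `E₈` diagram -/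
def eW : List Bimonster.Gen :=
  (List.replicate 15 [.e1, .d1, .c1, .b1, .a, .b2, .c2, .b3]).flatten

/-- the spider -/
def sW : List Bimonster.Gen :=
  (List.replicate 10 [.a, .b1, .c1, .a, .b2, .c2, .a, .b3, .c3]).flatten

variable {g}

theorem sub_words {n : ℕ} {P : Pres (Fin n)} (hP : P.OK) {ι : Fin n → Bimonster.Gen}
    (hgl : P.gl = List.finRange n)
    (hlab : ∀ x y, coxLabel P.edges x y = coxLabel edges (ι x) (ι y))
    (hnode : ∀ x, ι x ∈ coxNodes edges) (hc : CoxHolds edges g) {xw : List (Fin n)}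
    (hx : P.Rx = [xw.map Fin.val]) (hxw : pr g (xw.map ι) = 1) :
    ∀ w ∈ P.R, evalW (eOf P.gl (g ∘ ι)) w = 1 := by
  intro w hw
  rcases List.mem_append.mp hw with hw | hw
  · refine words_of_coxHolds hP.check (fun x _ y _ => ?_) w hw
    rw [hlab]
    exact hc _ (hnode x) _ (hnode y)
  · rw [hx, List.mem_singleton] at hw
    subst hw
    rw [hgl, evalW_val, ← hxw, pr, List.map_map]

theorem P_id (hc : CoxHolds edges g) (hs : pr g sW = 1) (w : List (Fin 10))
    (hw : ((w.map Fin.val).all (fun l => Nat.blt l PresP.pres.gl.length) &&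
      fixAll ((w.map Fin.val).map fun l => TabPTop.L10.cols.getD l 0) 6561) = true) :
    pr g (w.map PresP.ι) = 1 := by
  have h1 := identities PresP.ok (w := w.map Fin.val) (List.length_finRange) (by decide)
    P_bound RepP.perm_ok RepP.chain_ok P_chain hw
  have h2 := transport PresP.ok (sub_words (g := g) PresP.ok rfl PresP.label_eq
    (by decide +kernel) hc (xw := PresP.xw) rfl
    (by rwa [show PresP.xw.map PresP.ι = sW by decide +kernel])) h1
  rw [show PresP.pres.gl = List.finRange 10 from rfl, evalW_val] at h2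
  rw [pr, List.map_map]
  exact h2

theorem Q_id (hc : CoxHolds edges g)
    (hz : pr g ((List.replicate 2 (zW ++ [Bimonster.Gen.d2])).flatten) = 1) (w : List (Fin 9))
    (hw : ((w.map Fin.val).all (fun l => Nat.blt l PresQ.pres.gl.length) &&
      fixAll ((w.map Fin.val).map fun l => RepQ.cols.getD l 0) 272) = true) :
    pr g (w.map PresQ.ι) = 1 := by
  have h1 := identities PresQ.ok (w := w.map Fin.val) (List.length_finRange) (by decide)
    Q_bound RepQ.perm_ok RepQ.chain_ok Q_chain hw
  have h2 := transport PresQ.ok (sub_words (g := g) PresQ.ok rfl PresQ.label_eq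
    (by decide +kernel) hc (xw := PresQ.xw) rfl
    (by rwa [show PresQ.xw.map PresQ.ι =
      (List.replicate 2 (zW ++ [Bimonster.Gen.d2])).flatten by decide +kernel])) h1
  rw [show PresQ.pres.gl = List.finRange 9 from rfl, evalW_val] at h2
  rw [pr, List.map_map]
  exact h2

/-- `z` in the letters of `PresP` -/
def zP : List (Fin 10) := (List.replicate 9 [1, 2, 4, 0, 3, 5, 7]).flatten

/-- `z'` in the letters of `PresP` -/
def zP' : List (Fin 10) := (List.replicate 9 [1, 2, 0, 4, 3, 6, 7]).flatten

/-- the `E₈` element in the letters of `PresP` -/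
def eP : List (Fin 10) := (List.replicate 15 [8, 7, 3, 2, 1, 4, 5, 0]).flatten

/-- the `E₈` element in the letters of `PresQ` -/
def eQ : List (Fin 9) := (List.replicate 15 [8, 6, 3, 2, 1, 4, 5, 0]).flatten

/-- the key relation for the first arm -/
theorem arm_end (hc : CoxHolds edges g) (hs : pr g sW = 1) :
    g Bimonster.Gen.f1 = pr g zW ∧ g Bimonster.Gen.f1 = pr g zW' := by
  have hn : ∀ x : Bimonster.Gen, x ∈ coxNodes edges := fun x => by cases x <;> decide
  have hsq := sq_of_coxHolds hc hn
  have hzz := P_id hc hs (zP ++ zP) (by decide +kernel)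
  have hzz' := P_id hc hs (zP ++ zP') (by decide +kernel)
  have hfz := P_id hc hs (List.replicate 2 ([9] ++ zP)).flatten (by decide +kernel)
  have hfze := P_id hc hs (List.replicate 3 ([9] ++ zP ++ eP)).flatten (by decide +kernel)
  rw [show (zP ++ zP).map PresP.ι = zW ++ zW by decide +kernel, pr_append] at hzz
  rw [show (zP ++ zP').map PresP.ι = zW ++ zW' by decide +kernel, pr_append] at hzz'
  rw [show (List.replicate 2 ([(9 : Fin 10)] ++ zP)).flatten.map PresP.ι =
    ([Bimonster.Gen.f1] ++ zW) ++ ([Bimonster.Gen.f1] ++ zW) by decide +kernel,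
    pr_append, pr_append] at hfz
  rw [show (List.replicate 3 ([(9 : Fin 10)] ++ zP ++ eP)).flatten.map PresP.ι =
    ([Bimonster.Gen.f1] ++ zW ++ eW) ++ ([Bimonster.Gen.f1] ++ zW ++ eW) ++
      ([Bimonster.Gen.f1] ++ zW ++ eW) by decide +kernel,
    pr_append, pr_append, pr_append, pr_append] at hfze
  set A := pr g zW with hA
  set F := pr g [Bimonster.Gen.f1] with hF
  have hA' : pr g zW' = A := mul_left_cancel (hzz'.trans hzz.symm)
  have hcomm : Commute (g Bimonster.Gen.d2) A := by
    rw [← hA', pr]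
    apply Commute.list_prod_right
    intro y hy
    obtain ⟨x, hx, rfl⟩ := List.mem_map.mp hy
    have h2 : coxLabel edges x Bimonster.Gen.d2 = 2 := by
      have : (zW'.all fun x => decide (coxLabel edges x Bimonster.Gen.d2 = 2)) = true := by
        decide +kernel
      exact of_decide_eq_true (List.all_eq_true.mp this x hx)
    have h3 := hc x (hn x) _ (hn Bimonster.Gen.d2)
    rw [h2, pow_two] at h3
    have h4 := mul_eq_one_iff_eq_inv.mp h3
    rw [mul_inv_rev, ← eq_inv_of_mul_eq_one_left (hsq Bimonster.Gen.d2),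
      ← eq_inv_of_mul_eq_one_left (hsq x)] at h4
    exact h4.symm
  have hE : pr g eW = 1 := by
    have hQ := Q_id hc ?_ eQ (by decide +kernel)
    · rwa [show eQ.map PresQ.ι = eW by decide +kernel] at hQ
    · rw [show (List.replicate 2 (zW ++ [Bimonster.Gen.d2])).flatten =
        (zW ++ [Bimonster.Gen.d2]) ++ (zW ++ [Bimonster.Gen.d2]) from by decide +kernel,
        pr_append, pr_append, show pr g [Bimonster.Gen.d2] = g Bimonster.Gen.d2 by simp [pr]]
      calc A * g Bimonster.Gen.d2 * (A * g Bimonster.Gen.d2)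
          = (A * A) * (g Bimonster.Gen.d2 * g Bimonster.Gen.d2) := by
            rw [mul_assoc A, ← mul_assoc (g Bimonster.Gen.d2), hcomm.eq]; simp [mul_assoc]
        _ = 1 := by rw [hzz, hsq, one_mul]
  rw [hE, mul_one, hfz, one_mul] at hfze
  have hFA : g Bimonster.Gen.f1 = A := by
    have : g Bimonster.Gen.f1 = F := by simp [hF, pr]
    rw [this]
    exact (eq_inv_of_mul_eq_one_left hfze).trans (eq_inv_of_mul_eq_one_left hzz).symm
  exact ⟨hFA, hFA.trans hA'.symm⟩

end Cfsg.Agent.H44.Y555
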