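import Cfsg.Agent.H44.Y555.Basic

/-!
The presentation on b3 a b1 c1 b2 c2 c3 d1 e1 f1 with one further relator.
-/

set_option autoImplicit false

namespace Cfsg.Agent.H44.Y555.PresP

open Cfsg.Agent.H45

/-- the letters -/
def ι : Fin 10 → Cfsg.Spor.Bimonster.Gen :=
  ![.b3, .a, .b1, .c1, .b2, .c2, .c3, .d1, .e1, .f1]

/-- the further relator -/
def xw : List (Fin 10) := [1, 2, 3, 1, 4, 5, 1, 0, 6, 1, 2, 3, 1, 4, 5, 1, 0, 6, 1, 2, 3, 1, 4, 5, 1, 0, 6, 1, 2, 3, 1, 4, 5, 1, 0, 6, 1, 2, 3, 1, 4, 5, 1, 0, 6, 1, 2, 3, 1, 4, 5, 1, 0, 6, 1, 2, 3, 1, 4, 5, 1, 0, 6, 1, 2, 3, 1, 4, 5, 1, 0, 6, 1, 2, 3, 1, 4, 5, 1, 0, 6, 1, 2, 3, 1, 4, 5, 1, 0, 6]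

/-- the presentation as words in the letters -/
def pres : Pres (Fin 10) where
  edges := [(1, 3, 2), (2, 3, 3), (3, 3, 7), (7, 3, 8), (8, 3, 9), (1, 3, 4), (4, 3, 5), (1, 3, 0), (0, 3, 6)]
  extra := [(xw.map FreeGroup.of).prod]
  gl := List.finRange 10
  Rc := [
  [0, 0],
  [0, 1, 0, 1, 0, 1],
  [0, 2, 0, 2],
  [0, 3, 0, 3],
  [0, 4, 0, 4],
  [0, 5, 0, 5],
  [0, 6, 0, 6, 0, 6],
  [0, 7, 0, 7],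
  [0, 8, 0, 8],
  [0, 9, 0, 9],
  [1, 1],
  [1, 2, 1, 2, 1, 2],
  [1, 3, 1, 3],
  [1, 4, 1, 4, 1, 4],
  [1, 5, 1, 5],
  [1, 6, 1, 6],
  [1, 7, 1, 7],
  [1, 8, 1, 8],
  [1, 9, 1, 9],
  [2, 2],
  [2, 3, 2, 3, 2, 3],
  [2, 4, 2, 4],
  [2, 5, 2, 5],
  [2, 6, 2, 6],
  [2, 7, 2, 7],
  [2, 8, 2, 8],
  [2, 9, 2, 9],
  [3, 3],
  [3, 4, 3, 4],
  [3, 5, 3, 5],
  [3, 6, 3, 6],
  [3, 7, 3, 7, 3, 7],
  [3, 8, 3, 8],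
  [3, 9, 3, 9],
  [4, 4],
  [4, 5, 4, 5, 4, 5],
  [4, 6, 4, 6],
  [4, 7, 4, 7],
  [4, 8, 4, 8],
  [4, 9, 4, 9],
  [5, 5],
  [5, 6, 5, 6],
  [5, 7, 5, 7],
  [5, 8, 5, 8],
  [5, 9, 5, 9],
  [6, 6],
  [6, 7, 6, 7],
  [6, 8, 6, 8],
  [6, 9, 6, 9],
  [7, 7],
  [7, 8, 7, 8, 7, 8],
  [7, 9, 7, 9],
  [8, 8],
  [8, 9, 8, 9, 8, 9],
  [9, 9]]
  Rx := [xw.map Fin.val]

theorem ok : pres.OK where
  all x := List.mem_finRange x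
  nodup := List.nodup_finRange _
  check := by decide +kernel
  extra_eval _G _ f _ := by simp only [pres, List.map_cons, List.map_nil, lift_prod, evalW_val]

theorem label_eq : ∀ x y, Cfsg.Spor.coxLabel pres.edges x y =
    Cfsg.Spor.coxLabel Cfsg.Spor.Bimonster.edges (ι x) (ι y) := by decide +kernel

end Cfsg.Agent.H44.Y555.PresP
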