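import Cfsg.Agent.H44.Y555.Main

/-!
The six end-node relations follow from the spider relation.
-/

set_option autoImplicit false

namespace Cfsg.Agent.H44.Y555

open Cfsg.Agent.H45 Cfsg.Spor Cfsg.Spor.Bimonster

/-- move each arm to the next one -/
def rot : Bimonster.Gen → Bimonster.Gen
  | .a => .a
  | .b1 => .b2 | .c1 => .c2 | .d1 => .d2 | .e1 => .e2 | .f1 => .f2
  | .b2 => .b3 | .c2 => .c3 | .d2 => .d3 | .e2 => .e3 | .f2 => .f3
  | .b3 => .b1 | .c3 => .c1 | .d3 => .d1 | .e3 => .e1 | .f3 => .f1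

theorem rot_label : ∀ x y : Bimonster.Gen, x ∈ coxNodes edges → y ∈ coxNodes edges →
    coxLabel edges x y = coxLabel edges (rot x) (rot y) := by
  intro x y _ _
  cases x <;> cases y <;> decide

variable {G : Type} [Group G] {g : Bimonster.Gen → G}

theorem rot_cox (hc : CoxHolds edges g) : CoxHolds edges (g ∘ rot) := by
  intro x hx y hy
  rw [rot_label x y hx hy]
  exact hc _ (by cases x <;> decide) _ (by cases y <;> decide)

theorem rot_spider (hs : pr g sW = 1) : pr (g ∘ rot) sW = 1 := by
  have hsplit : sW.map rot =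
      [Bimonster.Gen.a, .b2, .c2, .a, .b3, .c3, .a, .b1, .c1] ++
        (sW.map rot).drop 9 := by decide
  have hconj : [Bimonster.Gen.a, .b1, .c1] ++ sW.map rot = sW ++ [.a, .b1, .c1] := by decide
  have := congrArg (pr g) hconj
  rw [pr_append, pr_append, hs, one_mul] at this
  have h1 : pr g (sW.map rot) = 1 := mul_eq_left.mp this
  simpa [pr, List.map_map] using h1

/-- every further relator of the Bimonster presentation holds -/
theorem extra_trivial (hc : CoxHolds edges g) (hs : pr g sW = 1) :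
    ∀ r ∈ Bimonster.extra, FreeGroup.lift g r = 1 := by
  obtain ⟨h1, h2⟩ := arm_end hc hs
  obtain ⟨h3, h4⟩ := arm_end (rot_cox hc) (rot_spider hs)
  obtain ⟨h5, h6⟩ := arm_end (rot_cox (rot_cox hc)) (rot_spider (rot_spider hs))
  simp [pr, sW] at hs
  simp [pr, zW, zW', rot] at h1 h2 h3 h4 h5 h6
  intro r hr
  simp [Bimonster.extra] at hr
  rcases hr with rfl | rfl | rfl | rfl | rfl | rfl | rfl
  case inl =>
    simp [Bimonster.a, Bimonster.b1, Bimonster.b2, Bimonster.b3, Bimonster.c1, Bimonster.c2,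
      Bimonster.c3, FreeGroup.lift_apply_of, pow_succ, mul_assoc, hs]
  all_goals
    rw [map_mul, map_inv, mul_inv_eq_one]
    simp [Bimonster.a, Bimonster.b1, Bimonster.b2, Bimonster.b3, Bimonster.c1, Bimonster.c2,
      Bimonster.c3, Bimonster.d1, Bimonster.d2, Bimonster.d3, Bimonster.f1, Bimonster.f2,
      Bimonster.f3, FreeGroup.lift_apply_of, pow_succ, mul_assoc]
    assumption

end Cfsg.Agent.H44.Y555
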